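import Cfsg.Agent.H589.TildeHeight

/-!
# Degrees in the principal block when the Sylow order is at most `p ^ 2` (helper492)

`not_dvd_of_sq` : if `p ^ 3` does not divide `|G|` and `χ ∈ B₀` does not vanish at some element of order divisible by
`p`, then `p` does not divide `χ(1)` (Brauer-Feit).
-/

set_option autoImplicit false

open scoped ComplexConjugate

namespace Cfsg.Agent.H492.CY

open Cfsg Cfsg.Agent.Characters Cfsg.Agent.H589.Tilde Cfsg.Agent.H589.TildeHeight

universe u

/-- the number `coef p χ χ` -/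
theorem coef_self {G : Type u} [Group G] [Fintype G] (p : ℕ) [Fact p.Prime] (χ : IrrCharacter G) :
    (coef p χ χ : ℝ) = ((p ^ (Nat.card G).factorization p : ℕ) : ℝ) * ((Nat.card G : ℝ)⁻¹ *
      ∑ g : G, if p ∣ orderOf g then (0 : ℝ) else Complex.normSq ((χ : G → ℂ) g)) := by
  have h := coef_spec p χ χ
  rw [tilde_def, Core.classInner_def] at h
  have h1 : ((coef p χ χ : ℝ) : ℂ) = ((((p ^ (Nat.card G).factorization p : ℕ) : ℝ) * ((Nat.card G : ℝ)⁻¹ *
      ∑ g : G, if p ∣ orderOf g then (0 : ℝ) else Complex.normSq ((χ : G → ℂ) g)) : ℝ) : ℂ) := by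
    rw [Complex.ofReal_intCast, ← h]
    push_cast
    rw [Finset.mul_sum, Finset.mul_sum, Finset.mul_sum]
    refine Finset.sum_congr rfl fun g _ => ?_
    split_ifs
    · simp
    · rw [mul_assoc (((p : ℂ) ^ (Nat.card G).factorization p)), Complex.mul_conj]
      ring
  exact_mod_cast h1

theorem coef_pos {G : Type u} [Group G] [Fintype G] (p : ℕ) [hp : Fact p.Prime] (χ : IrrCharacter G) :
    0 < coef p χ χ := by
  have h := coef_self p χ
  have h1 : (0 : ℝ) < ((p ^ (Nat.card G).factorization p : ℕ) : ℝ) := by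
    exact_mod_cast pow_pos hp.out.pos _
  have h2 : (0 : ℝ) < (Nat.card G : ℝ)⁻¹ := inv_pos.2 (by exact_mod_cast Nat.card_pos)
  have h3 : (0 : ℝ) < ∑ g : G, if p ∣ orderOf g then (0 : ℝ) else Complex.normSq ((χ : G → ℂ) g) := by
    refine Finset.sum_pos' (fun g _ => ?_) ⟨1, Finset.mem_univ _, ?_⟩
    · split_ifs
      · exact le_rfl
      · exact Complex.normSq_nonneg _
    · rw [if_neg (by rw [orderOf_one]; exact fun h => hp.out.one_lt.ne' (Nat.dvd_one.1 h))]
      exact Complex.normSq_pos.2 (Core.isIrr_apply_one_ne_zero χ.2)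
  have h4 : (0 : ℝ) < (coef p χ χ : ℝ) := by
    rw [h]
    positivity
  exact_mod_cast h4

theorem coef_lt {G : Type u} [Group G] [Fintype G] (p : ℕ) [hp : Fact p.Prime] (χ : IrrCharacter G) {x : G}
    (hx : p ∣ orderOf x) (h0 : (χ : G → ℂ) x ≠ 0) :
    coef p χ χ < (p ^ (Nat.card G).factorization p : ℕ) := by
  have h := coef_self p χ
  have h1 : (0 : ℝ) < ((p ^ (Nat.card G).factorization p : ℕ) : ℝ) := by
    exact_mod_cast pow_pos hp.out.pos _
  have hG : (0 : ℝ) < (Nat.card G : ℝ) := by exact_mod_cast Nat.card_pos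
  have h3 : (∑ g : G, if p ∣ orderOf g then (0 : ℝ) else Complex.normSq ((χ : G → ℂ) g)) <
      ∑ g : G, Complex.normSq ((χ : G → ℂ) g) := by
    refine Finset.sum_lt_sum (fun g _ => ?_) ⟨x, Finset.mem_univ _, ?_⟩
    · split_ifs
      · exact Complex.normSq_nonneg _
      · exact le_rfl
    · rw [if_pos hx]
      exact Complex.normSq_pos.2 h0
  have h4 : ∑ g : G, Complex.normSq ((χ : G → ℂ) g) = (Nat.card G : ℝ) := by
    have h5 := Core.classInner_irr_self χ.2
    rw [Core.classInner_def] at h5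
    have h6 : (Nat.card G : ℂ) ≠ 0 := Core.card_ne_zero_complex
    rw [inv_mul_eq_one₀ h6] at h5
    have h7 : ((∑ g : G, Complex.normSq ((χ : G → ℂ) g) : ℝ) : ℂ) = ((Nat.card G : ℝ) : ℂ) := by
      rw [Complex.ofReal_natCast, h5]
      push_cast
      exact Finset.sum_congr rfl fun g _ => (Complex.mul_conj _).symm
    exact_mod_cast h7
  rw [h4] at h3
  have h5 : (Nat.card G : ℝ)⁻¹ * (∑ g : G, if p ∣ orderOf g then (0 : ℝ) else Complex.normSq ((χ : G → ℂ) g)) < 1 := by
    rw [inv_mul_lt_iff₀ hG, mul_one]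
    exact h3
  have h6 : (coef p χ χ : ℝ) < ((p ^ (Nat.card G).factorization p : ℕ) : ℝ) := by
    rw [h]
    calc _ < ((p ^ (Nat.card G).factorization p : ℕ) : ℝ) * 1 := mul_lt_mul_of_pos_left h5 h1
      _ = _ := mul_one _
  exact_mod_cast h6

/-- **heights are zero in the principal block if the Sylow order is at most `p ^ 2`** -/
theorem not_dvd_of_sq {G : Type u} [Group G] [Finite G] {p : ℕ} {M : Ideal AlgInt} (hM : IsPModular p M)
    (h3 : ¬ p ^ 3 ∣ Nat.card G) {χ : IrrCharacter G} (hχ : χ ∈ principalBlock M G) {x : G} (hx : p ∣ orderOf x)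
    (h0 : (χ : G → ℂ) x ≠ 0) : ¬ p ∣ charDegree (χ : G → ℂ) := by
  have := Fintype.ofFinite G
  have hp : Fact p.Prime := ⟨hM.1⟩
  intro hd
  have hB : IsPBlock M (principalBlock M G) := ⟨⟨fun _ => (1 : ℂ), Core.isIrr_one⟩, rfl⟩
  have h1 : (⟨fun _ => (1 : ℂ), Core.isIrr_one⟩ : IrrCharacter G) ∈ principalBlock M G := by
    intro g
    show MemLocalIdeal M (centralChar (fun _ : G => (1 : ℂ)) g - centralChar (fun _ : G => (1 : ℂ)) g)
    rw [sub_self]
    exact Blocks.LocalRing.memLocalIdeal_zero hM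
  have hG : Nat.card G ≠ 0 := Nat.card_pos.ne'
  have ha : (Nat.card G).factorization p ≤ 2 := by
    by_contra h
    exact h3 ((hp.out.pow_dvd_iff_le_factorization hG).2 (by omega))
  have hd0 : charDegree (χ : G → ℂ) ≠ 0 := (charDegree_pos χ).ne'
  have hv : 1 ≤ (charDegree (χ : G → ℂ)).factorization p := (hp.out.dvd_iff_one_le_factorization hd0).1 hd
  have hht : blockHeight p (principalBlock M G) (χ : G → ℂ) = 0 := by
    refine height_zero_of_not_dvd p hM hB hχ fun h => ?_
    have h4 := Int.le_of_dvd (coef_pos p χ) h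
    have h5 := coef_lt p χ hx h0
    have h6 : (p ^ (Nat.card G).factorization p : ℕ) ≤ p ^ ((charDegree (χ : G → ℂ)).factorization p + 1) :=
      Nat.pow_le_pow_right hp.out.pos (by omega)
    have h7 : ((p ^ (Nat.card G).factorization p : ℕ) : ℤ) ≤
        ((p ^ ((charDegree (χ : G → ℂ)).factorization p + 1) : ℕ) : ℤ) := by exact_mod_cast h6
    omega
  have hmin : sInf ((fun ψ : IrrCharacter G => (charDegree (ψ : G → ℂ)).factorization p) '' principalBlock M G) = 0 := by
    rw [Nat.sInf_eq_zero]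
    left
    refine ⟨_, h1, ?_⟩
    show (charDegree (fun _ : G => (1 : ℂ))).factorization p = 0
    have h8 : charDegree (fun _ : G => (1 : ℂ)) = 1 := by
      unfold charDegree
      simp
    rw [h8, Nat.factorization_one]
    rfl
  unfold blockHeight at hht
  rw [hmin] at hht
  omega

end Cfsg.Agent.H492.CY
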