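import Cfsg.Agent.H852.RatB.One
import Cfsg.Agent.H492.CY.Ht

/-!
# The engine with one exact prime, with a nonzero value (helper492, after helper852)

`exists_rat_ne`, `rowQ_one_ne` : as `exists_rat`, `rowQ_one` of `H852.RatB.One`; the rational character found does not
vanish at the `p`-element `x`; `rat_one` : so its degree is prime to `p` if `p ^ 3` does not divide the order.
-/

set_option autoImplicit false

open Subgroup
open scoped ComplexConjugate

namespace Cfsg.Agent.H492.CY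

open Cfsg Cfsg.Agent.Characters.Core Cfsg.Agent.Blocks Cfsg.Agent.SmallSimple Cfsg.Agent.Characters
open Cfsg.Agent.H602.B0R Cfsg.Agent.H702.BR Cfsg.Agent.H145.BR Cfsg.Agent.H852.RatB

universe u

variable {G : Type u} [Group G] [Finite G]

/-- **The engine with one exact prime.** -/
theorem exists_rat_ne {p q : ℕ} [hp : Fact p.Prime] [hq : Fact q.Prime] {M M' : Ideal AlgInt} (hM : IsPModular p M)
    (hM' : IsPModular q M') {x y : G} {k : ℕ} (hx : orderOf x = p ^ k) (hy : orderOf y = q)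
    (hno : ∀ a b : G, orderOf a = p ^ k → IsConj a x → orderOf b = q → ¬ Commute a b) (hrx : RatEl x)
    (hne : ∀ χ : IrrCharacter G, χ ∈ principalBlock M G → χ ∈ principalBlock M' G → NE q (χ : G → ℂ))
    (hfix : ∀ χ ∈ Com M M' G, ∀ k : ℕ, k.Coprime (Nat.card G) →
      ∃ c : ℕ, ∀ g : G, (χ : G → ℂ) (g ^ (k ^ (2 ^ c))) = (χ : G → ℂ) g) :
    ∃ χ : IrrCharacter G, χ ∈ principalBlock M G ∧ χ ∈ principalBlock M' G ∧ (χ : G → ℂ) ≠ (fun _ => 1) ∧
      (χ : G → ℂ) x ≠ 0 ∧ ∀ g : G, ∃ z : ℤ, (χ : G → ℂ) g = z := by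
  classical
  have := finite_irr (G := G)
  have := Fintype.ofFinite (IrrCharacter G)
  have := Local.isPrime_of_isPModular hM
  have := Local.isPrime_of_isPModular hM'
  -- the products of the values are integers
  have hval : ∀ χ : IrrCharacter G, χ ∈ principalBlock M G → χ ∈ principalBlock M' G →
      ∃ z : ℤ, conj ((χ : G → ℂ) x) * (χ : G → ℂ) y = z := by
    intro χ h1 h2
    obtain ⟨z, hz⟩ := int_of_ratEl hrx χ
    obtain ⟨ε, -, hε⟩ := hne χ h1 h2
    refine ⟨z * ε, ?_⟩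
    rw [hz, hε y (by rw [hy]), map_intCast]
    push_cast
    rfl
  choose! f hf using hval
  let F : Finset (IrrCharacter G) := Finset.univ.filter fun χ => χ ∈ principalBlock M G ∧ χ ∈ principalBlock M' G
  have hF : ∀ χ, χ ∈ F ↔ χ ∈ principalBlock M G ∧ χ ∈ principalBlock M' G := fun χ => by simp [F]
  let one : IrrCharacter G := ⟨fun _ => (1 : ℂ), isIrr_one⟩
  have hone1 : one ∈ principalBlock M G := PrincipalSection.one_mem_principalBlock
  have hone2 : one ∈ principalBlock M' G := PrincipalSection.one_mem_principalBlock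
  have hsum : ∑ χ ∈ F, f χ = 0 := by
    have h1 := H735.PairCross.sum_inter_eq_zero hM hM' (principalBlock M G).toFinset (principalBlock M' G).toFinset
      (Set.coe_toFinset _) (Set.coe_toFinset _) (x := x) (y := y) hx (l := 1) (by rw [hy, pow_one])
      (fun a b ha hb => hno a b (by rw [← hx]; exact orderOf_isConj ha) ha (by rw [← hy]; exact orderOf_isConj hb))
    have h2 : ((∑ χ ∈ F, f χ : ℤ) : ℂ) = 0 := by
      rw [← h1]
      push_cast
      refine Finset.sum_congr ?_ fun χ hχ => ?_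
      · ext χ
        simp [F]
      · have h3 : χ ∈ principalBlock M G ∧ χ ∈ principalBlock M' G := by simpa using hχ
        exact (hf χ h3.1 h3.2).symm
    exact_mod_cast h2
  have hfone : f one = 1 := by
    have h1 := hf one hone1 hone2
    have h2 : conj ((one : G → ℂ) x) * (one : G → ℂ) y = 1 := by
      show conj (1 : ℂ) * 1 = 1
      rw [map_one, mul_one]
    rw [h2] at h1
    exact_mod_cast h1.symm
  -- the odd set
  let Y : Set (IrrCharacter G) := {χ | χ ∈ Com M M' G ∧ Odd (f χ)}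
  have hYodd : Odd (Nat.card Y) := by
    have h1 : (F.erase one).sum f = -1 := by
      have h2 : f one + (F.erase one).sum f = ∑ χ ∈ F, f χ :=
        Finset.add_sum_erase F f ((hF one).2 ⟨hone1, hone2⟩)
      rw [hfone, hsum] at h2
      omega
    have h2 := card_odd_mod (F.erase one) f
    have h3 : Nat.card Y = ((F.erase one).filter fun χ => Odd (f χ)).card := by
      rw [Nat.card_eq_fintype_card, Fintype.card_of_subtype]
      intro χ
      rw [Finset.mem_filter, Finset.mem_erase, hF]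
      constructor
      · rintro ⟨⟨h4, h5, h6⟩, h7⟩
        exact ⟨⟨h5, h6, fun h8 => h4 (Subtype.ext h8)⟩, h7⟩
      · rintro ⟨⟨h4, h5, h6⟩, h7⟩
        exact ⟨⟨fun h8 => h6 (congrArg Subtype.val h8), h4, h5⟩, h7⟩
    rw [h3, Nat.odd_iff]
    rw [h1] at h2
    omega
  obtain ⟨χ, ⟨⟨h1, h2, h3⟩, hodd⟩, h4⟩ := core Y hYodd (fun χ hχ k hk => by
    obtain ⟨⟨h1, h2, h3⟩, h4⟩ := hχ
    have h5 := tw_mem hk h1
    have h6 := tw_mem hk h2
    refine ⟨⟨h5, h6, fun h7 => h3 ?_⟩, ?_⟩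
    · funext g
      obtain ⟨m, hm⟩ := exists_pow_eq_self_of_coprime (x := g) (n := k)
        (hk.coprime_dvd_right (orderOf_dvd_natCard g))
      have h8 := congrFun h7 (g ^ m)
      rw [tw_apply, ← pow_mul, mul_comm, pow_mul, hm] at h8
      exact h8
    · have h7 : f (tw k hk χ) = f χ := by
        have h8 := hf _ h5 h6
        have h9 := hf _ h1 h2
        obtain ⟨ε, -, hε⟩ := hne χ h1 h2
        rw [tw_apply, tw_apply, classFunction_apply_eq (isIrr_isClassFunction χ.2) (hrx k hk), hε (y ^ k) (by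
          rw [orderOf_pow_of_coprime hk, hy]), ← hε y (by rw [hy]), h9] at h8
        exact_mod_cast h8.symm
      rw [h7]
      exact h4) (fun χ hχ => hfix χ hχ.1)
  refine ⟨χ, h1, h2, h3, fun hx0 => ?_, exists_int h4⟩
  have h9 := hf χ h1 h2
  rw [hx0, map_zero, zero_mul] at h9
  have h10 : f χ = 0 := by exact_mod_cast h9.symm
  rw [h10] at hodd
  exact absurd hodd (by decide)

/-- **The row with one exact prime.** `p` any prime, `q ≠ 2` divides `|G|` exactly once, `|N(Q) : C(Q)| = q - 1`, `x` a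
rational `p`-element with `q ∤ |C(x)|`. -/
theorem rowQ_one_ne {p q : ℕ} [hp : Fact p.Prime] [hq : Fact q.Prime] (hq2 : q ≠ 2)
    (hdq : q ∣ Nat.card G) (hnq : ¬ q ^ 2 ∣ Nat.card G)
    (he : ∀ Q : Sylow q G, (centralizer (Q : Set G)).relIndex (normalizer (Q : Set G)) = q - 1)
    (hF : FrobAll G) {x : G} {k : ℕ} (hx : orderOf x = p ^ k)
    (hno : ∀ b : G, orderOf b = q → ¬ Commute x b) (hrx : RatEl x) {L : List ℕ}
    (hL : ∀ r ∈ L, r.Prime ∧ TOdd r G) (hg : ∀ g : G, Gen1 (orderOf g) q L) {M : Ideal AlgInt}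
    (hM : IsPModular p M) : ∃ χ : IrrCharacter G, χ ∈ principalBlock M G ∧ (χ : G → ℂ) ≠ (fun _ => 1) ∧
      (χ : G → ℂ) x ≠ 0 ∧ ∀ g : G, ∃ z : ℤ, (χ : G → ℂ) g = z := by
  obtain ⟨M', hM'⟩ := Blocks.ExistsModular.exists_isPModular hq.out
  obtain ⟨Q⟩ : Nonempty (Sylow q G) := inferInstance
  have hQ := H702.BR.card_sylow hdq hnq Q
  obtain ⟨y, hy⟩ := exists_prime_orderOf_dvd_card' q hdq
  have hne : ∀ χ : IrrCharacter G, χ ∈ principalBlock M G → χ ∈ principalBlock M' G → NE q (χ : G → ℂ) :=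
    fun χ _ h => ne_of_e_eq Q hQ hM' hq2 (he Q) h
  obtain ⟨χ, h1, -, h3, hx0, h4⟩ := exists_rat_ne hM hM' hx hy (fun a b _ ha hb hab => by
    obtain ⟨c, hc⟩ := isConj_iff.1 ha
    refine hno (c * b * c⁻¹) ?_ ?_
    · rw [← hb]
      exact orderOf_injective (MulAut.conj c).toMonoidHom (MulAut.conj c).injective b
    · rw [← hc]
      have := hab.map (MulAut.conj c)
      simpa only [MulAut.conj_apply] using this) hrx hne (fun χ hχ k hk => by
    refine fix_of_local (fun g k hk => ?_) hk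
    have : NeZero (orderOf g) := ⟨(orderOf_pos g).ne'⟩
    obtain ⟨h1, h2⟩ := local_cond Q hQ (hF q hq.out hq2 hdq hnq M' hM') hχ.2.1 (hne χ hχ.1 hχ.2.1) g
    have hk' : k.Coprime (orderOf g) := hk.coprime_dvd_right (orderOf_dvd_natCard g)
    obtain ⟨c, hc⟩ := hg g (locStab χ g) h1 h2 (fun r hr u hu ho => tOdd_local (hL r hr).1 (hL r hr).2 χ g hu ho)
      (ZMod.unitOfCoprime k hk')
    refine ⟨c, ?_⟩
    rw [mem_locStab] at hc
    rw [← hc]
    exact congrArg _ (pow_eq_of_modEq dvd_rfl ((val_pow_modEq _ _).trans ((val_unitOfCoprime hk').pow _)).symm))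
  exact ⟨χ, h1, h3, hx0, h4⟩


/-- **a rational nontrivial character of degree prime to `p` in the principal block**; `p ^ 3` does not divide the
order, `q` is an exact prime with inertial index `q - 1` -/
theorem rat_one {p q : ℕ} [hp : Fact p.Prime] [hq : Fact q.Prime] (hq2 : q ≠ 2)
    (hdq : q ∣ Nat.card G) (hnq : ¬ q ^ 2 ∣ Nat.card G)
    (he : ∀ Q : Sylow q G, (centralizer (Q : Set G)).relIndex (normalizer (Q : Set G)) = q - 1)
    (hF : FrobAll G) {x : G} {k : ℕ} (hx : orderOf x = p ^ (k + 1))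
    (hno : ∀ b : G, orderOf b = q → ¬ Commute x b) (hrx : RatEl x) {L : List ℕ}
    (hL : ∀ r ∈ L, r.Prime ∧ TOdd r G) (hg : ∀ g : G, Gen1 (orderOf g) q L) (h3 : ¬ p ^ 3 ∣ Nat.card G)
    {M : Ideal AlgInt} (hM : IsPModular p M) : ∃ χ : IrrCharacter G, χ ∈ principalBlock M G ∧
      (χ : G → ℂ) ≠ (fun _ => 1) ∧ ¬ p ∣ charDegree (χ : G → ℂ) ∧ (χ : G → ℂ) x ≠ 0 ∧
      ∀ g : G, ∃ z : ℤ, (χ : G → ℂ) g = z := by
  obtain ⟨χ, h1, h2, h4, h5⟩ := rowQ_one_ne hq2 hdq hnq he hF hx hno hrx hL hg hM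
  exact ⟨χ, h1, h2, not_dvd_of_sq hM h3 h1 (by rw [hx]; exact dvd_pow_self p (Nat.succ_ne_zero k)) h4, h4, h5⟩

end Cfsg.Agent.H492.CY
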