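import Cfsg.Agent.H492.CY.Over
import Cfsg.Agent.H492.CY.One
import Cfsg.Agent.H713.B0R.FiFive
import Cfsg.Agent.H819.CubeFi24

/-!
# S4829: the row of `Fi24'` for the prime 5 (helper492)

The engine with the exact prime 11 in `Fi24 = Aut(Fi24')` gives a rational nontrivial character of the principal
5-block; its degree is prime to 5 (Brauer-Feit) and it is irreducible on `Fi24'` (its value at the transpositions is
not zero).
-/

set_option autoImplicit false
set_option maxRecDepth 100000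

namespace Cfsg.Agent.H492.CY.FiTFFive

open Cfsg Subgroup Cfsg.Agent.H770.CY Cfsg.Agent.H145.BR Cfsg.Agent.H852.RatB Cfsg.Agent.H713.B0R
open Cfsg.Agent.LThreeFi24.SNine Cfsg.Agent.H841.Five
open Cfsg.Agent.R08.FiTwentyFour (finite_Fi24)
open Cfsg.Spor (Fi24 Fi24')

universe u

theorem card_eq : Nat.card Fi24 = 2510411418381323442585600 := by
  rw [Cfsg.Agent.H13.RankFi24.card_Fi24]

theorem sq_mem (g : Fi24) : g ^ 2 ∈ commutator Fi24 :=
  Subgroup.sq_mem_of_index_two Cfsg.Agent.R08.FiTwentyFour.index_commutator g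

/-- an odd divisor of the order of an element of `Fi24` divides the order of its square -/
theorem dvd_sq {g : Fi24} {d : ℕ} (hd : Odd d) (h : d ∣ orderOf g) :
    d ∣ orderOf (⟨g ^ 2, sq_mem g⟩ : Fi24') := by
  have hfin : Finite Fi24 := finite_Fi24
  have h1 : orderOf (⟨g ^ 2, sq_mem g⟩ : Fi24') = orderOf (g ^ 2) := (Subgroup.orderOf_coe _).symm
  rw [h1, orderOf_pow]
  rcases (Nat.dvd_prime Nat.prime_two).1 (Nat.gcd_dvd_right (orderOf g) 2) with h2 | h2
  · rw [h2, Nat.div_one]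
    exact h
  · rw [h2]
    have h3 : 2 ∣ orderOf g := h2 ▸ Nat.gcd_dvd_left (orderOf g) 2
    obtain ⟨m, hm⟩ := h3
    rw [hm, Nat.mul_div_cancel_left m (by norm_num)]
    rw [hm] at h
    exact (Nat.Coprime.dvd_of_dvd_mul_left (Nat.coprime_two_right.2 hd) h)

theorem e11 (P : Sylow 11 Fi24) :
    (centralizer (P : Set Fi24)).relIndex (normalizer (P : Set Fi24)) = 11 - 1 := by
  have h11 : Fact (Nat.Prime 11) := ⟨by norm_num⟩
  have hfin : Finite Fi24 := finite_Fi24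
  have hcard := card_eq
  have hP : Nat.card P = 11 := H852.RatB.card_sylow_of_not_sq (by rw [hcard]; norm_num) (by rw [hcard]; norm_num) P
  obtain ⟨x₁, g₁, ho₁, hc₁⟩ := Cfsg.Agent.H713.B0R.FiFive.exists_eleven
  obtain ⟨x₀, hx₀⟩ : ∃ x₀ : Fi24, x₀ = (x₁ : Fi24) := ⟨_, rfl⟩
  obtain ⟨g₀, hg₀⟩ : ∃ g₀ : Fi24, g₀ = (g₁ : Fi24) := ⟨_, rfl⟩
  have ho : orderOf x₀ = 11 := by rw [hx₀, Subgroup.orderOf_coe, ho₁]
  have hc : g₀ * x₀ * g₀⁻¹ = x₀ ^ 90 := by
    rw [hx₀, hg₀]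
    exact congrArg Subtype.val hc₁
  have hpg : IsPGroup 11 (zpowers x₀) := IsPGroup.of_card (n := 1) (by rw [Nat.card_zpowers, ho, pow_one])
  obtain ⟨Q, hQ⟩ := hpg.exists_le_sylow
  obtain ⟨s, hs⟩ := MulAction.exists_smul_eq Fi24 Q P
  have hsx : s * x₀ * s⁻¹ ∈ (P : Subgroup Fi24) := by
    have h1 : MulAut.conj s x₀ ∈ (s • Q : Sylow 11 Fi24) := by
      rw [Sylow.smul_def]
      exact smul_mem_pointwise_smul _ _ _ (hQ (mem_zpowers x₀))
    rw [hs] at h1
    exact h1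
  have hso : orderOf (s * x₀ * s⁻¹) = 11 := by rw [H568.orderOf_conj', ho]
  have hz : zpowers (s * x₀ * s⁻¹) = (P : Subgroup Fi24) := by
    apply eq_of_le_of_card_ge
    · rwa [zpowers_le]
    · rw [Nat.card_zpowers, hso]
      exact hP.le
  have hc' : (s * g₀ * s⁻¹) * (s * x₀ * s⁻¹) * (s * g₀ * s⁻¹)⁻¹ = (s * x₀ * s⁻¹) ^ 90 := by
    rw [conj_pow, ← hc]
    group
  have h1 := Cfsg.Agent.H713.B0R.CoOne.pow_relIndex (P : Subgroup Fi24) hz hc'
  rw [hso] at h1
  have h2 := SmallSimple.BurnsideNC.relIndex_dvd_of_card_eq_prime P hP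
  have h3 : (centralizer (P : Set Fi24)).relIndex (normalizer (P : Set Fi24)) ∈ Nat.divisors 10 :=
    Nat.mem_divisors.2 ⟨h2, by norm_num⟩
  generalize (centralizer (P : Set Fi24)).relIndex (normalizer (P : Set Fi24)) = m at h1 h3
  have h4 : Nat.divisors 10 = {1, 2, 5, 10} := by decide
  rw [h4] at h3
  simp only [Finset.mem_insert, Finset.mem_singleton] at h3
  rcases h3 with rfl | rfl | rfl | rfl
  · exact absurd h1 (by decide)
  · exact absurd h1 (by decide)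
  · exact absurd h1 (by decide)
  · rfl

theorem ratEl : RatEl (y0 : Fi24) := by
  have hcard := card_eq
  intro k hk
  have h5 : ¬ 5 ∣ k := by
    intro h5
    have h1 : 5 ∣ Nat.gcd k (Nat.card Fi24) := Nat.dvd_gcd h5 (by rw [hcard]; norm_num)
    rw [hk] at h1
    exact absurd h1 (by norm_num)
  obtain ⟨f, hf, -⟩ := H30.BR.exists_f h5
  exact IsConj.symm (isConj_iff.2 ⟨f, hf⟩)

/-- **the character of `Fi24`** -/
theorem exists_chi {M : Ideal AlgInt} (hM : IsPModular 5 M) : ∃ χ : IrrCharacter Fi24, χ ∈ principalBlock M Fi24 ∧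
    (χ : Fi24 → ℂ) ≠ (fun _ => 1) ∧ ¬ 5 ∣ charDegree (χ : Fi24 → ℂ) ∧ ∀ g : Fi24, ∃ z : ℤ, (χ : Fi24 → ℂ) g = z := by
  have hfin : Finite Fi24 := finite_Fi24
  have h5 : Fact (Nat.Prime 5) := ⟨by norm_num⟩
  have h11 : Fact (Nat.Prime 11) := ⟨by norm_num⟩
  have hcard := card_eq
  obtain ⟨χ, h1, h2, h3, -, h4⟩ := rat_one (p := 5) (q := 11) (k := 0) (L := []) (by norm_num)
    (by rw [hcard]; norm_num) (by rw [hcard]; norm_num) e11
    (fun q hq hq2 h1 h2 M hM => by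
      have := Fact.mk hq
      exact H657.Frob.frob hM hq2 h1 h2) (x := (y0 : Fi24))
    (by rw [LThreeFi24.FiveConj.orderOf_y0]; norm_num) (fun b hb hc => Cfsg.Agent.H713.B0R.FiFive.y0_no hb hc.eq.symm) ratEl
    (fun r hr => absurd hr (by simp)) (fun g => by
      refine gen1_group (G := Fi24)
        (fac := [(2, 22), (3, 16), (5, 2), (7, 3), (11, 1), (13, 1), (17, 1), (23, 1), (29, 1)])
        (bad := [63, 91, 117, 29 * 49]) hcard (by decide +kernel) (by norm_num) (by decide +kernel) ?_ g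
      intro g d hd hdg
      simp only [List.mem_cons, List.not_mem_nil, or_false] at hd
      rcases hd with rfl | rfl | rfl | rfl
      · exact FiSeven.not_63_dvd ⟨MulEquiv.refl _⟩ _ (dvd_sq (by decide) hdg)
      · exact FiTF.not_91_dvd ⟨MulEquiv.refl _⟩ _ (dvd_sq (by decide) hdg)
      · exact FiTF.not_117_dvd ⟨MulEquiv.refl _⟩ _ (dvd_sq (by decide) hdg)
      · exact Cfsg.Agent.H713.B0R.FiFive.not_1421 ⟨MulEquiv.refl _⟩ _ (dvd_sq (by decide) hdg))
    (by rw [hcard]; norm_num) hM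
  exact ⟨χ, h1, h2, h3, h4⟩

theorem cyc_of_int {p : ℕ} {G : Type u} [Group G] [Finite G] {χ : G → ℂ} (hχ : IsCharacter G χ)
    (h : ∀ g, ∃ z : ℤ, χ g = z) : Cyc p χ := by
  intro k hk _ g
  have h1 := (Cfsg.Agent.Characters.GaloisBasic.exists_rat_iff hχ g).1 (by
    obtain ⟨z, hz⟩ := h g
    exact ⟨(z : ℚ), by rw [hz]; push_cast; rfl⟩)
  exact h1 k hk

/-- **S4829, `Fi24'`, `p = 5`** -/
theorem rowA {S : Type u} [Group S] [Fintype S] (h : Spor.IsoFi24' S) : RowA 5 S := by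
  have hfin : Finite Fi24 := finite_Fi24
  obtain ⟨e⟩ := h
  have hD : (commutator Fi24).index = 2 := Cfsg.Agent.R08.FiTwentyFour.index_commutator
  refine rowA_of_over (E := Fi24) (commutator Fi24) e (by rw [hD]; norm_num) ?_
    H819.CubeFi24.conj_injective H819.CubeFi24.conj_surjective ?_
  · intro q hq hd
    rw [← (commutator Fi24).card_mul_index, hD] at hd
    rcases hq.dvd_mul.1 hd with h1 | h1
    · exact h1
    · have h2 : q = 2 := (Nat.prime_dvd_prime_iff_eq hq Nat.prime_two).1 h1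
      rw [h2, Cfsg.Agent.R08.FiTwentyFour.card_commutator]
      norm_num
  · intro M hM
    obtain ⟨χ, h1, h2, h3, h4⟩ := exists_chi hM
    obtain ⟨h5, h6⟩ := H30.BR.val_gl hM h1
    have hl : Cfsg.Agent.Fischer.Fi24Rep.gen .l ∉ commutator Fi24 :=
      Cfsg.Agent.R08.FiTwentyFour.odd (Cfsg.Agent.R08.FiTwentyFour.gen_mem_L .l)
    have hirr := Cfsg.Agent.HKS.CosetTwo.isIrr_restrict hD χ.2 hl h5
    refine ⟨χ, h1, h3, cyc_of_int (Cfsg.Agent.Characters.Core.isIrr_isCharacter χ.2) h4, hirr, ?_,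
      cyc_of_int (Cfsg.Agent.Characters.Core.isIrr_isCharacter hirr) fun g => h4 g⟩
    by_contra hcon
    push Not at hcon
    rcases H30.BR.eq_one_or_sg hD χ.2 (fun d hd => hcon ⟨d, hd⟩) with h | h
    · exact h2 h
    · apply h6
      have h7 : (χ : Fi24 → ℂ) 1 = 1 := hcon 1
      rw [h7, h, Cfsg.Agent.HKS.CosetTwo.sg_of_notMem hD hl]

end Cfsg.Agent.H492.CY.FiTFFive
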