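import Cfsg.Agent.H770.CY.Defs
import Cfsg.Agent.Blocks.LocalRing
import Cfsg.Agent.Blocks.Basic
import Cfsg.Agent.Characters.Core

/-!
# S4829: rows from a character of a group inducing all automorphisms (helper492)

`rowA_of_over`: `D ≤ E` is a copy of `S`, `E = Aut S`, and for every `M` there is an irreducible `χ ∈ B₀(M, E)` of
degree prime to `p`, `Cyc p`, whose restriction to `D` is irreducible, nontrivial and `Cyc p`.
-/

set_option autoImplicit false

open Subgroup
open scoped ComplexConjugate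

namespace Cfsg.Agent.H492.CY

open Cfsg Cfsg.Agent.H770.CY Cfsg.Agent.Characters.Core Cfsg.Agent.Blocks Cfsg.Agent.Blocks.Basic
  Cfsg.Agent.Blocks.LocalRing

universe u v

/-- the values of the members of the principal block at the elements whose class has length prime to `p` -/
theorem value_of_mem {G : Type u} [Group G] [Finite G] {p : ℕ} {M : Ideal AlgInt} (hM : IsPModular p M)
    {χ : IrrCharacter G} (hχ : χ ∈ principalBlock M G) {g : G} (hg : ¬ p ∣ (centralizer ({g} : Set G)).index) :
    MemLocalIdeal M ((χ : G → ℂ) g - (χ : G → ℂ) 1) := by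
  have h0 : (χ : G → ℂ) 1 ≠ 0 := irr_one_ne_zero χ.2
  have h1 : MemLocalIdeal M (centralChar (fun _ : G => (1 : ℂ)) g - centralChar (χ : G → ℂ) g) := hχ g
  set n := (centralizer ({g} : Set G)).index with hn
  have h2 : MemLocalIdeal M ((n : ℂ) * ((χ : G → ℂ) g - (χ : G → ℂ) 1)) := by
    obtain ⟨m, -, hm⟩ := irr_one_eq_natCast χ.2
    have h3 : MemLocalRing M (-((χ : G → ℂ) 1)) := by
      rw [hm]
      exact memLocalRing_neg (memLocalRing_natCast hM m)
    have h4 := memLocalIdeal_mul_left hM h3 h1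
    have h5 : -((χ : G → ℂ) 1) * (centralChar (fun _ : G => (1 : ℂ)) g - centralChar (χ : G → ℂ) g) =
        (n : ℂ) * ((χ : G → ℂ) g - (χ : G → ℂ) 1) := by
      unfold centralChar
      rw [← hn]
      field_simp
      ring
    rwa [h5] at h4
  have h6 : ¬ MemLocalIdeal M (n : ℂ) := by
    rw [memLocalIdeal_natCast_iff hM]
    exact hg
  have h7 : (n : ℂ) ≠ 0 := ne_zero_of_not_memLocalIdeal hM h6
  have h8 := memLocalIdeal_mul_left hM (memLocalRing_inv (memLocalRing_natCast hM n) h6) h2
  rwa [inv_mul_cancel_left₀ h7] at h8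

/-- **the row from a group `E` inducing all automorphisms** -/
theorem rowA_of_over {p : ℕ} {S : Type u} [Group S] [Fintype S] {E : Type v} [Group E] [Finite E]
    (D : Subgroup E) [D.Normal] (e : S ≃* D) (hidx : ¬ p ∣ D.index)
    (hpr : ∀ q : ℕ, q.Prime → q ∣ Nat.card E → q ∣ Nat.card D)
    (hinj : Function.Injective (MulAut.conjNormal : E →* MulAut D))
    (hsurj : Function.Surjective (MulAut.conjNormal : E →* MulAut D))
    (H : ∀ M : Ideal AlgInt, IsPModular p M → ∃ χ : IrrCharacter E, χ ∈ principalBlock M E ∧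
      ¬ p ∣ charDegree (χ : E → ℂ) ∧ Cyc p (χ : E → ℂ) ∧
      IsIrrCharacter D (fun d : D => (χ : E → ℂ) d) ∧ (∃ d : D, (χ : E → ℂ) d ≠ 1) ∧
      Cyc p (fun d : D => (χ : E → ℂ) d)) : RowA p S := by
  classical
  intro A hA M hM
  have hp : p.Prime := hM.1
  have hpf : Fact p.Prime := ⟨hp⟩
  obtain ⟨χ, h1, h2, h3, h4, ⟨d0, h5⟩, h6⟩ := H M hM
  -- the isomorphism
  let c : E ≃* MulAut D := MulEquiv.ofBijective (MulAut.conjNormal : E →* MulAut D) ⟨hinj, hsurj⟩
  let φ : MulAut S ≃* E := (MulAut.congr e).trans c.symm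
  have hφ : ∀ (a : MulAut S) (x : S), ((e (a x) : D) : E) = φ a * (e x : D) * (φ a)⁻¹ := by
    intro a x
    have e1 : c (φ a) = MulAut.congr e a := c.apply_symm_apply _
    have e2 : c (φ a) (e x) = e (a x) := by
      rw [e1]
      show e (a (e.symm (e x))) = _
      rw [e.symm_apply_apply]
    rw [← e2]
    exact MulAut.conjNormal_apply _ _
  have hφc : ∀ s : S, φ (MulAut.conj s) = ((e s : D) : E) := by
    intro s
    apply hinj
    ext x
    obtain ⟨y, rfl⟩ := e.surjective x
    rw [MulAut.conjNormal_apply, MulAut.conjNormal_apply, ← hφ]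
    show ((e (s * y * s⁻¹) : D) : E) = _
    rw [map_mul, map_mul, map_inv]
    rfl
  let ι : A →* E := φ.toMonoidHom.comp A.subtype
  have hι : Function.Injective ι := fun a b hab => Subtype.ext (φ.injective hab)
  have hιa : ∀ a : A, ι a = φ (a : MulAut S) := fun a => rfl
  have hres : ∀ s : S, (res hA.1 (fun a : A => (χ : E → ℂ) (ι a))) s = (χ : E → ℂ) (e s : D) := by
    intro s
    show (χ : E → ℂ) (φ (MulAut.conj s)) = _
    rw [hφc]
  have hθ : IsIrrCharacter S (res hA.1 (fun a : A => (χ : E → ℂ) (ι a))) := by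
    have h7 := isIrr_comp e.toMonoidHom e.surjective h4
    have h8 : (fun d : D => (χ : E → ℂ) d) ∘ e.toMonoidHom = res hA.1 (fun a : A => (χ : E → ℂ) (ι a)) := by
      funext s
      exact (hres s).symm
    rwa [h8] at h7
  -- the order of `A`
  have hcard : Nat.card D ∣ Nat.card A := by
    have h7 : Function.Injective (fun s : S => (⟨MulAut.conj s, hA.1 s⟩ : A)) := by
      intro s t hst
      have h8 : MulAut.conj s = MulAut.conj t := congrArg Subtype.val hst
      have h9 := congrArg φ h8
      rw [hφc, hφc] at h9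
      exact e.injective (Subtype.ext h9)
    rw [← Nat.card_congr e.toEquiv]
    let f : S →* A := ⟨⟨fun s : S => (⟨MulAut.conj s, hA.1 s⟩ : A), Subtype.ext (map_one _)⟩,
      fun a b => Subtype.ext (map_mul _ _ _)⟩
    exact Subgroup.card_dvd_of_injective f h7
  refine ⟨fun a : A => (χ : E → ℂ) (ι a), ?_, ?_, ?_, ?_, ?_⟩
  · exact isCharacter_comp ι (isIrr_isCharacter χ.2)
  · intro k hk hk1 a
    show (χ : E → ℂ) (ι (a ^ k)) = (χ : E → ℂ) (ι a)
    rw [map_pow]
    refine h3 k ?_ hk1 _
    rw [Nat.coprime_iff_gcd_eq_one]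
    by_contra hne
    obtain ⟨q, hq, hqd⟩ := Nat.exists_prime_and_dvd hne
    have h7 := hpr q hq (dvd_trans hqd (Nat.gcd_dvd_right _ _))
    have h8 := Nat.dvd_gcd (dvd_trans hqd (Nat.gcd_dvd_left _ _)) (dvd_trans h7 hcard)
    rw [Nat.coprime_iff_gcd_eq_one.1 hk] at h8
    exact hq.one_lt.ne' (Nat.dvd_one.1 h8)
  · refine ⟨charDegree (χ : E → ℂ), ?_, h2⟩
    show (χ : E → ℂ) (ι 1) = _
    rw [map_one]
    exact irr_one_eq_charDegree χ.2
  · intro θ
    have h7 : mul (res hA.1 (fun a : A => (χ : E → ℂ) (ι a))) (θ : S → ℂ) =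
        classInner (res hA.1 (fun a : A => (χ : E → ℂ) (ι a))) (θ : S → ℂ) := rfl
    by_cases h8 : res hA.1 (fun a : A => (χ : E → ℂ) (ι a)) = (θ : S → ℂ)
    · right
      refine ⟨?_, ?_, ?_⟩
      · rw [h7, h8]
        exact classInner_irr_self θ.2
      · intro h9
        apply h5
        rw [← h8] at h9
        obtain ⟨s, hs⟩ := e.surjective d0
        rw [← hs, ← hres s, h9]
      · rw [← h8]
        intro k hk hk1 s
        rw [hres, hres, map_pow]
        refine h6 k ?_ hk1 (e s)
        rwa [← Nat.card_congr e.toEquiv]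
    · left
      rw [h7]
      exact classInner_irr_ne hθ θ.2 h8
  · rintro a - ⟨Q, hQ⟩
    show MemLocalIdeal M ((χ : E → ℂ) (ι a) - (χ : E → ℂ) (ι 1))
    rw [map_one]
    refine value_of_mem hM h1 ?_
    intro hd
    -- the Sylow subgroup
    have h7 : (Q : Subgroup S).map (D.subtype.comp e.toMonoidHom) ≤ centralizer ({ι a} : Set E) := by
      rintro _ ⟨x, hx, rfl⟩
      rw [mem_centralizer_singleton_iff]
      have h8 := hφ (a : MulAut S) x
      rw [hQ x hx] at h8
      show ((e x : D) : E) * ι a = ι a * ((e x : D) : E)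
      rw [hιa]
      conv_lhs => rw [h8]
      group
    have h8 : ((Q : Subgroup S).map (D.subtype.comp e.toMonoidHom)).index = (Q : Subgroup S).index * D.index := by
      have h9 : Function.Injective (D.subtype.comp e.toMonoidHom) := D.subtype_injective.comp e.injective
      rw [Subgroup.index_map_of_injective _ h9]
      congr 1
      rw [MonoidHom.range_comp]
      have h10 : (e.toMonoidHom).range = ⊤ := MonoidHom.range_eq_top.2 e.surjective
      rw [h10, ← MonoidHom.range_eq_map, D.range_subtype]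
    have h9 := dvd_trans hd (Subgroup.index_dvd_of_le h7)
    rw [h8] at h9
    rcases (Nat.Prime.dvd_mul hp).1 h9 with h | h
    · exact Q.not_dvd_index h
    · exact hidx h

end Cfsg.Agent.H492.CY
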